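import Cfsg.Agent.Lib.Helper6.ALP.Defs

/-!
# ALP piece C1

All these subgroups are characteristic.
-/

set_option autoImplicit false
set_option linter.unusedSectionVars false

open scoped TensorProduct commutatorElement
open Cfsg.Agent.Lib.Helper1.FPF Cfsg.Agent.Lib.Helper6.HKK

namespace Cfsg.Agent.Lib.Helper6.ALP

universe u

theorem C1_map_sSup {G : Type u} [Group G] (𝒮 : Set (Subgroup G))
    (h : ∀ (β : G ≃* G), ∀ N ∈ 𝒮, N.map (β : G →* G) ∈ 𝒮) (α : G ≃* G) :
    (sSup 𝒮).map (α : G →* G) = sSup 𝒮 := by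
  have key : ∀ β : G ≃* G, (sSup 𝒮).map (β : G →* G) ≤ sSup 𝒮 := by
    intro β
    rw [Subgroup.map_le_iff_le_comap]
    refine sSup_le ?_
    intro N hN
    rw [← Subgroup.map_le_iff_le_comap]
    exact le_sSup (h β N hN)
  apply le_antisymm (key α)
  intro x hx
  exact ⟨α.symm x, key α.symm ⟨x, hx, rfl⟩, by simp⟩

theorem map_Gm {G : Type u} [Group G] (α : G ≃* G) (m : ℕ) : (Gm G m).map (α : G →* G) = Gm G m :=
  Subgroup.characteristic_iff_map_eq.1 inferInstance α
theorem map_derived {G : Type u} [Group G] (α : G ≃* G) (m : ℕ) : (derivedSeries G m).map (α : G →* G) = derivedSeries G m :=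
  Subgroup.characteristic_iff_map_eq.1 inferInstance α
theorem map_frattini {G : Type u} [Group G] (α : G ≃* G) : (frattini G).map (α : G →* G) = frattini G :=
  Subgroup.characteristic_iff_map_eq.1 inferInstance α
theorem map_pCore {G : Type u} [Group G] [Finite G] (p : ℕ) (α : G ≃* G) : (Cfsg.pCore p G).map (α : G →* G) = Cfsg.pCore p G := by
  unfold Cfsg.pCore
  refine C1_map_sSup _ ?_ α
  rintro β N ⟨hN, hp⟩
  refine ⟨hN.map _ β.surjective, ?_⟩
  exact hp.map _
theorem map_pPrimeCore {G : Type u} [Group G] [Finite G] (p : ℕ) (α : G ≃* G) : (Cfsg.pPrimeCore p G).map (α : G →* G) = Cfsg.pPrimeCore p G := by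
  unfold Cfsg.pPrimeCore
  refine C1_map_sSup _ ?_ α
  rintro β N ⟨hN, hp⟩
  refine ⟨hN.map _ β.surjective, ?_⟩
  have h1 : Nat.card ↥(N.map (β : G →* G)) = Nat.card ↥N :=
    Subgroup.card_map_of_injective β.injective
  rw [h1]
  exact hp

end Cfsg.Agent.Lib.Helper6.ALP
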