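import Cfsg.Agent.Lib.Helper6.ALP.Defs

/-!
# ALP piece D1
-/

set_option autoImplicit false
set_option linter.unusedSectionVars false

open scoped TensorProduct commutatorElement
open Cfsg.Agent.Lib.Helper1.FPF Cfsg.Agent.Lib.Helper6.HKK

namespace Cfsg.Agent.Lib.Helper6.ALP

universe u

theorem derived_add {G : Type u} [Group G] (a b : ℕ) :
    derivedSeries G (a + b) = (derivedSeries ↥(derivedSeries G a) b).map (derivedSeries G a).subtype := by
  induction b with
  | zero =>
    rw [derivedSeries_zero, ← MonoidHom.range_eq_map, Subgroup.range_subtype, add_zero]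
  | succ b ih =>
    rw [← add_assoc, derivedSeries_succ, derivedSeries_succ, Subgroup.map_commutator, ← ih]

theorem derived_le_lcs {G : Type u} [Group G] (K : Subgroup G) (m : ℕ) :
    (derivedSeries ↥K m).map K.subtype ≤ K.lowerCentralSeries m := by
  induction m with
  | zero =>
    rw [derivedSeries_zero, ← MonoidHom.range_eq_map, Subgroup.range_subtype]
    exact le_rfl
  | succ m ih =>
    rw [derivedSeries_succ, Subgroup.map_commutator, Subgroup.lowerCentralSeries_succ]
    refine Subgroup.commutator_mono ih ?_
    exact Subgroup.map_subtype_le _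

theorem D1_le {G : Type u} [Group G] (N : Subgroup G) (a : ℕ) (h : derivedSeries G a ≤ N) (b : ℕ) :
    derivedSeries G (a + b) ≤ (derivedSeries ↥N b).map N.subtype := by
  induction b with
  | zero =>
    rw [derivedSeries_zero, ← MonoidHom.range_eq_map, Subgroup.range_subtype, add_zero]
    exact h
  | succ b ih =>
    rw [← add_assoc, derivedSeries_succ, derivedSeries_succ, Subgroup.map_commutator]
    exact Subgroup.commutator_mono ih ih

theorem derived_ext {G : Type u} [Group G] (N : Subgroup G) [N.Normal] (a b : ℕ) (ha : derivedSeries (G ⧸ N) a = ⊥)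
    (hb : derivedSeries ↥N b = ⊥) : derivedSeries G (a + b) = ⊥ := by
  have h1 : (derivedSeries G a).map (QuotientGroup.mk' N) = derivedSeries (G ⧸ N) a :=
    map_derivedSeries_eq (QuotientGroup.mk'_surjective N) a
  have h2 : derivedSeries G a ≤ N := by
    intro x hx
    have h3 : QuotientGroup.mk' N x ∈ (derivedSeries G a).map (QuotientGroup.mk' N) :=
      Subgroup.mem_map_of_mem _ hx
    rw [h1, ha, Subgroup.mem_bot] at h3
    exact (QuotientGroup.eq_one_iff x).1 h3
  have h4 := D1_le N a h2 b
  rw [hb, Subgroup.map_bot] at h4
  exact le_bot_iff.1 h4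

theorem D1_step {Y : Type u} [Group Y] [Finite Y] (hY : IsSolvable Y) (m : ℕ) :
    derivedSeries Y m = ⊥ ∨ Nat.card ↥(derivedSeries Y m) + m ≤ Nat.card Y := by
  induction m with
  | zero =>
    right
    rw [derivedSeries_zero, Subgroup.card_top, add_zero]
  | succ m ih =>
    rcases ih with ih | ih
    · left
      rw [derivedSeries_succ, ih]
      exact Subgroup.commutator_bot_left _
    · by_cases hb : derivedSeries Y m = ⊥
      · left
        rw [derivedSeries_succ, hb]
        exact Subgroup.commutator_bot_left _
      · right
        have hlt : derivedSeries Y (m + 1) < derivedSeries Y m := by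
          rw [derivedSeries_succ]
          have : Group.IsSolvable Y := hY
          exact Group.IsSolvable.commutator_lt_of_ne_bot hb
        have hc : Nat.card ↥(derivedSeries Y (m + 1)) < Nat.card ↥(derivedSeries Y m) := by
          by_contra hcon
          push Not at hcon
          exact hlt.ne (Subgroup.eq_of_le_of_card_ge hlt.le hcon)
        omega

theorem derived_card {Y : Type u} [Group Y] [Finite Y] (hY : IsSolvable Y) (m : ℕ) (hm : Nat.card Y ≤ m) :
    derivedSeries Y m = ⊥ := by
  rcases D1_step hY m with h | h
  · exact h
  · exfalso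
    have : 0 < Nat.card ↥(derivedSeries Y m) := Nat.card_pos
    omega

end Cfsg.Agent.Lib.Helper6.ALP
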