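import Cfsg.Agent.Lib.Helper1.FPF
import Cfsg.Agent.Lib.Helper6.HKK.G
import Cfsg.Agent.Lib.Helper6.HKK.II
import Cfsg.Agent.Lib.Helper6.HKK.B8a
import Cfsg.Agent.Lib.Helper6.HKK.B8d
import Cfsg.Agent.Lib.Helper6.HKK.B8e
import Cfsg.Agent.Lib.Helper6.HKK.B9
import Cfsg.Agent.Lib.Helper6.HKK.C1

/-!
# ALP farm (S3782, Alperin): definitions
-/

set_option autoImplicit false

namespace Cfsg.Agent.Lib.Helper6.ALP

universe u

/-- `α^p = 1` and `α` has at most `p^n` fixed points -/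
def AP (p n : ℕ) {G : Type u} [Group G] (α : G ≃* G) : Prop :=
  α^[p] = _root_.id ∧ Nat.card {g : G // α g = g} ≤ p ^ n

end Cfsg.Agent.Lib.Helper6.ALP
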