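import Cfsg.Agent.Lib.Helper6.ALP.Defs

/-!
# ALP piece L0

This is the first half of the landed proof of `eq_zero_of_uu_pow_tmul` (HKK/E6.lean): ε(u^(m+1)) = -p^m, so -(p^m) • z = 0.
-/

set_option autoImplicit false
set_option linter.unusedSectionVars false

open scoped TensorProduct commutatorElement
open Cfsg.Agent.Lib.Helper1.FPF Cfsg.Agent.Lib.Helper6.HKK

namespace Cfsg.Agent.Lib.Helper6.ALP

universe u

theorem pow_smul_eq_zero_of_uu_pow_tmul {L : Type u} [LieRing L] (p : ℕ) [Fact p.Prime] (m : ℕ) (z : L)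
    (h : ((uu p) ^ (m + 1)) ⊗ₜ[ℤ] z = (0 : LH p L)) : p ^ m • z = 0 := by
  have h1 := congrArg ((TensorProduct.lid ℤ L).toLinearMap ∘ₗ ((E6_eps p).rTensor L)) h
  rw [map_zero, LinearMap.comp_apply, LinearMap.rTensor_tmul, LinearEquiv.coe_coe,
    TensorProduct.lid_tmul, uu_pow, ← Nat.cast_pow, ← nsmul_eq_mul, map_nsmul, E6_eps_uu] at h1
  have h2 : ((p ^ m) • (-1 : ℤ)) • z = -((p ^ m) • z) := by
    rw [smul_assoc, neg_smul, one_smul, smul_neg]
  rw [h2, neg_eq_zero] at h1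
  exact h1

end Cfsg.Agent.Lib.Helper6.ALP
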