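import Cfsg.Agent.Lib.Helper6.ALP.Defs
import Cfsg.Agent.Lib.Helper6.HKK.E1

/-!
# ALP piece L1
-/

set_option autoImplicit false
set_option linter.unusedSectionVars false

open scoped TensorProduct commutatorElement
open Cfsg.Agent.Lib.Helper1.FPF Cfsg.Agent.Lib.Helper6.HKK

namespace Cfsg.Agent.Lib.Helper6.ALP

universe u

theorem comp_zero_sub {L : Type u} [LieRing L] (p : ℕ) [NeZero p] (φ : L →+ L) (x : L)
    (hsum : ∑ j ∈ Finset.range p, φ^[j] x = 0) :
    comp p φ 0 x = 0 := by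
  unfold comp
  simp only [mul_zero, neg_zero]
  rw [← TensorProduct.tmul_sum, sum_zmod_iter, hsum, TensorProduct.tmul_zero]

theorem exists_GS_sub {L : Type u} [LieRing L] (p : ℕ) [NeZero p] (φ : L →+ L) (hφ : ∀ x y, φ ⁅x, y⁆ = ⁅φ x, φ y⁆)
    (hpow : ∀ x, φ^[p] x = x) (M : AddSubgroup L) (hMl : ∀ x ∈ M, ∀ y ∈ M, ⁅x, y⁆ ∈ M) (hMφ : ∀ x ∈ M, φ x ∈ M)
    (hsum : ∀ x ∈ M, ∑ j ∈ Finset.range p, φ^[j] x = 0) :
    ∃ S : GS p (LH p L), ∀ k, ∀ x ∈ M, comp p φ k x ∈ S.c k := by
  have hit : ∀ (d : ℕ), ∀ x ∈ M, φ^[d] x ∈ M := by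
    intro d
    induction d with
    | zero => intro x hx; exact hx
    | succ d ih =>
      intro x hx
      rw [Function.iterate_succ_apply']
      exact hMφ _ (ih x hx)
  let C : ZMod p → AddSubgroup (LH p L) := fun k =>
    AddSubgroup.closure {X | ∃ (m : ZMod p), ∃ x ∈ M, X = tt p m • comp p φ k x}
  refine ⟨⟨C, ?_, ?_⟩, ?_⟩
  · intro i j X Y hX hY
    induction hX using AddSubgroup.closure_induction with
    | mem X hX =>
      obtain ⟨m, x, hx, rfl⟩ := hX
      induction hY using AddSubgroup.closure_induction with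
      | mem Y hY =>
        obtain ⟨m', y, hy, rfl⟩ := hY
        rw [smul_lie_RA, comp_lie p φ hφ hpow, Finset.smul_sum]
        apply AddSubgroup.sum_mem
        intro d _
        rw [smul_smul, ← tt_add, ← tt_add]
        exact AddSubgroup.subset_closure ⟨_, _, hMl _ hx _ (hit _ _ hy), rfl⟩
      | zero => rw [lie_zero]; exact AddSubgroup.zero_mem _
      | add a b _ _ ha hb => rw [lie_add]; exact AddSubgroup.add_mem _ ha hb
      | neg a _ ha => rw [lie_neg]; exact AddSubgroup.neg_mem _ ha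
    | zero => rw [zero_lie]; exact AddSubgroup.zero_mem _
    | add a b _ _ ha hb => rw [add_lie]; exact AddSubgroup.add_mem _ ha hb
    | neg a _ ha => rw [neg_lie]; exact AddSubgroup.neg_mem _ ha
  · rw [eq_bot_iff, AddSubgroup.closure_le]
    rintro _ ⟨m, x, hx, rfl⟩
    rw [comp_zero_sub p φ x (hsum x hx), smul_zero]
    exact AddSubgroup.zero_mem _
  · intro k x hx
    apply AddSubgroup.subset_closure
    exact ⟨0, x, hx, by rw [tt_zero, one_smul]⟩

end Cfsg.Agent.Lib.Helper6.ALP
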