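import Cfsg.Agent.Lib.Helper6.ALP.Defs

/-!
# ALP piece L2

Copy of the landed proof of `sum_comp` (HKK/E2.lean): it uses hsum only at the given x.
-/

set_option autoImplicit false
set_option linter.unusedSectionVars false

open scoped TensorProduct commutatorElement
open Cfsg.Agent.Lib.Helper1.FPF Cfsg.Agent.Lib.Helper6.HKK

namespace Cfsg.Agent.Lib.Helper6.ALP

universe u

theorem sum_comp_of {L : Type u} [LieRing L] (p : ℕ) [Fact p.Prime] (φ : L →+ L) (x : L)
    (hx : ∑ j ∈ Finset.range p, φ^[j] x = 0) :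
    ∑ k : ZMod p, comp p φ k x = uu p ⊗ₜ[ℤ] x := by
  unfold comp
  rw [Finset.sum_comm]
  simp_rw [← TensorProduct.sum_tmul, sum_tt_neg_mul, TensorProduct.add_tmul, Finset.sum_add_distrib,
    ← TensorProduct.tmul_sum]
  rw [sum_zmod_iter, hx, TensorProduct.tmul_zero, zero_add]
  rw [Finset.sum_eq_single (0 : ZMod p)]
  · simp
  · intro b _ hb
    rw [if_neg hb, TensorProduct.zero_tmul]
  · intro h
    exact absurd (Finset.mem_univ _) h

end Cfsg.Agent.Lib.Helper6.ALP
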