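import Cfsg.Agent.Lib.Helper6.ALP.Defs
import Cfsg.Agent.Lib.Helper6.ALP.L0
import Cfsg.Agent.Lib.Helper6.ALP.L1
import Cfsg.Agent.Lib.Helper6.ALP.L2

/-!
# ALP piece L3

Copy the landed proof of `lie_fpf` (HKK/II.lean) with `exists_GS_sub`, `sum_comp_of`, and `pow_smul_eq_zero_of_uu_pow_tmul` at the end (m = h).
-/

set_option autoImplicit false
set_option linter.unusedSectionVars false

open scoped TensorProduct commutatorElement
open Cfsg.Agent.Lib.Helper1.FPF Cfsg.Agent.Lib.Helper6.HKK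

namespace Cfsg.Agent.Lib.Helper6.ALP

universe u

theorem lie_fpf_sub {L : Type u} [LieRing L] (p : ℕ) [Fact p.Prime] (φ : L →+ L) (hφ : ∀ x y, φ ⁅x, y⁆ = ⁅φ x, φ y⁆)
    (hpow : ∀ x, φ^[p] x = x) (M : AddSubgroup L) (hMl : ∀ x ∈ M, ∀ y ∈ M, ⁅x, y⁆ ∈ M) (hMφ : ∀ x ∈ M, φ x ∈ M)
    (hsum : ∀ x ∈ M, ∑ j ∈ Finset.range p, φ^[j] x = 0) (h : ℕ)
    (hG : ∀ (S : GS p (LH p L)) (X : LH p L) (l : List (LH p L)), S.Hom X → (∀ Y ∈ l, S.Hom Y) → l.length = h → lnb X l = 0) :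
    ∀ x ∈ M, ∀ l : List L, (∀ y ∈ l, y ∈ M) → l.length = h → p ^ h • lnb x l = 0 := by
  intro x hx l hlM hl
  obtain ⟨S, hS⟩ := exists_GS_sub p φ hφ hpow M hMl hMφ hsum
  have hcl : ∀ y ∈ M, (uu p ⊗ₜ[ℤ] y : LH p L) ∈ AddSubgroup.closure {X | S.Hom X} := by
    intro y hy
    rw [← sum_comp_of p φ y (hsum y hy)]
    exact AddSubgroup.sum_mem _ (fun k _ => AddSubgroup.subset_closure ⟨k, hS k y hy⟩)
  have h0 := lnb_closure {X | S.Hom X} h (fun X l hX hl hlen => hG S X l hX hl hlen)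
    (uu p ⊗ₜ[ℤ] x) (l.map (fun y => uu p ⊗ₜ[ℤ] y)) (hcl x hx) (by
      intro Y hY
      rw [List.mem_map] at hY
      obtain ⟨y, hy, rfl⟩ := hY
      exact hcl y (hlM y hy)) (by simpa using hl)
  rw [lnb_tmul, hl] at h0
  exact pow_smul_eq_zero_of_uu_pow_tmul p h _ h0

end Cfsg.Agent.Lib.Helper6.ALP
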