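import Cfsg.Agent.Lib.Helper6.ALP.Defs
import Cfsg.Agent.Lib.Helper6.ALP.L3

/-!
# ALP piece L4

`lnb_nsmul`: induction on l generalizing x.
`lie_afpf`: M := range of x ↦ c • x with c = p^n; `lie_fpf_sub` for c • x and l.map (c • ·), then `lnb_nsmul`.
`lie_afpf_ge`: l = l.take h ++ l.drop h, `lnb_append`, and lnb is additive in its first argument.
-/

set_option autoImplicit false
set_option linter.unusedSectionVars false

open scoped TensorProduct commutatorElement
open Cfsg.Agent.Lib.Helper1.FPF Cfsg.Agent.Lib.Helper6.HKK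

namespace Cfsg.Agent.Lib.Helper6.ALP

universe u

theorem L4_lnb_nsmul_left {L : Type u} [LieRing L] (k : ℕ) (x : L) (l : List L) :
    lnb (k • x) l = k • lnb x l := by
  induction k with
  | zero => rw [zero_smul, zero_smul, lnb_zero]
  | succ k ih => rw [succ_nsmul, succ_nsmul, lnb_add, ih]

theorem lnb_nsmul {L : Type u} [LieRing L] (c : ℕ) (x : L) (l : List L) :
    lnb (c • x) (l.map (fun y => c • y)) = c ^ (l.length + 1) • lnb x l := by
  induction l generalizing x with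
  | nil => simp [lnb_nil]
  | cons y l ih =>
    rw [List.map_cons, lnb_cons, lnb_cons, nsmul_lie, lie_nsmul, L4_lnb_nsmul_left, ih,
      List.length_cons, ← mul_smul, pow_succ c (l.length + 1), mul_comm]

theorem L4_iter_nsmul {L : Type u} [LieRing L] (φ : L →+ L) (c j : ℕ) (x : L) :
    φ^[j] (c • x) = c • φ^[j] x := by
  induction j generalizing x with
  | zero => rfl
  | succ j ih => rw [Function.iterate_succ_apply, Function.iterate_succ_apply, map_nsmul, ih]

theorem lie_afpf {L : Type u} [LieRing L] (p : ℕ) [Fact p.Prime] (φ : L →+ L) (hφ : ∀ x y, φ ⁅x, y⁆ = ⁅φ x, φ y⁆)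
    (hpow : ∀ x, φ^[p] x = x) (n : ℕ) (hsum : ∀ x, p ^ n • ∑ j ∈ Finset.range p, φ^[j] x = 0) (h : ℕ)
    (hG : ∀ (S : GS p (LH p L)) (X : LH p L) (l : List (LH p L)), S.Hom X → (∀ Y ∈ l, S.Hom Y) → l.length = h → lnb X l = 0) :
    ∀ (x : L) (l : List L), l.length = h → p ^ (h + n * (h + 1)) • lnb x l = 0 := by
  intro x l hl
  let M : AddSubgroup L := (nsmulAddMonoidHom (p ^ n) : L →+ L).range
  have hmem : ∀ y : L, (p ^ n) • y ∈ M := fun y => ⟨y, rfl⟩
  have h1 := lie_fpf_sub p φ hφ hpow M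
    (by
      rintro _ ⟨a, rfl⟩ _ ⟨b, rfl⟩
      show ⁅(p ^ n) • a, (p ^ n) • b⁆ ∈ M
      rw [nsmul_lie]
      exact hmem _)
    (by
      rintro _ ⟨a, rfl⟩
      show φ ((p ^ n) • a) ∈ M
      rw [map_nsmul]
      exact hmem _)
    (by
      rintro _ ⟨a, rfl⟩
      show ∑ j ∈ Finset.range p, φ^[j] ((p ^ n) • a) = 0
      simp only [L4_iter_nsmul]
      rw [← Finset.smul_sum]
      exact hsum a)
    h hG ((p ^ n) • x) (hmem x) (l.map (fun y => (p ^ n) • y))
    (by
      intro y hy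
      rw [List.mem_map] at hy
      obtain ⟨z, _, rfl⟩ := hy
      exact hmem z)
    (by simpa using hl)
  rw [lnb_nsmul, hl, ← mul_smul, ← pow_mul, ← pow_add] at h1
  exact h1

theorem lie_afpf_ge {L : Type u} [LieRing L] (p : ℕ) [Fact p.Prime] (φ : L →+ L) (hφ : ∀ x y, φ ⁅x, y⁆ = ⁅φ x, φ y⁆)
    (hpow : ∀ x, φ^[p] x = x) (n : ℕ) (hsum : ∀ x, p ^ n • ∑ j ∈ Finset.range p, φ^[j] x = 0) (h : ℕ)
    (hG : ∀ (S : GS p (LH p L)) (X : LH p L) (l : List (LH p L)), S.Hom X → (∀ Y ∈ l, S.Hom Y) → l.length = h → lnb X l = 0) :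
    ∀ (x : L) (l : List L), h ≤ l.length → p ^ (h + n * (h + 1)) • lnb x l = 0 := by
  intro x l hl
  have h1 := lie_afpf p φ hφ hpow n hsum h hG x (l.take h) (by simp [hl])
  conv_lhs => rw [← List.take_append_drop h l]
  rw [lnb_append, ← L4_lnb_nsmul_left, h1, lnb_zero]

end Cfsg.Agent.Lib.Helper6.ALP
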