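import Cfsg.Agent.Lib.Helper6.ALP.Defs

/-!
# ALP piece T2 (helper4)
-/

set_option autoImplicit false
set_option linter.unusedSectionVars false

open scoped TensorProduct commutatorElement
open Cfsg.Agent.Lib.Helper1.FPF Cfsg.Agent.Lib.Helper6.HKK

namespace Cfsg.Agent.Lib.Helper6.ALP

universe u

theorem card_fix_quot_le {G : Type u} [Group G] [Finite G] (α : G ≃* G) (N : Subgroup G) [N.Normal]
    (h : N.map (α : G →* G) = N) :
    Nat.card {x : G ⧸ N // quot α N h x = x} ≤ Nat.card {g : G // α g = g} := by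
  classical
  set ψ : G → G := fun g => g⁻¹ * α g with hψ
  have hD : ∀ (c : G ⧸ N), quot α N h c = c → ∀ n ∈ N, ψ (c.out * n) ∈ N := by
    intro c hc n hn
    have h1 : ((c.out * n : G) : G ⧸ N) = c := by
      rw [QuotientGroup.mk_mul_of_mem _ hn, QuotientGroup.out_eq']
    have h2 : quot α N h ((c.out * n : G) : G ⧸ N) = ((c.out * n : G) : G ⧸ N) := by rw [h1, hc]
    rw [quot_mk] at h2
    exact QuotientGroup.eq.1 h2.symm
  let dv : G → G := fun v => if hv : ∃ d, ψ d = v then hv.choose else 1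
  have hdv : ∀ d, ψ (dv (ψ d)) = ψ d := by
    intro d
    have hv : ∃ d', ψ d' = ψ d := ⟨d, rfl⟩
    simp only [dv, dif_pos hv]
    exact hv.choose_spec
  have hC : ∀ d e, ψ d = ψ e → α (d * e⁻¹) = d * e⁻¹ := by
    intro d e hde
    have h1 : α d = d * (e⁻¹ * α e) := by
      have : e⁻¹ * α e = d⁻¹ * α d := hde.symm
      rw [this]; group
    rw [map_mul, map_inv, h1]; group
  let Φ : {x : G ⧸ N // quot α N h x = x} × N → N × {g : G // α g = g} := fun x =>
    (⟨ψ (x.1.1.out * x.2.1), hD x.1.1 x.1.2 x.2.1 x.2.2⟩,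
     ⟨(x.1.1.out * x.2.1) * (dv (ψ (x.1.1.out * x.2.1)))⁻¹, hC _ _ (hdv _).symm⟩)
  have hΦ : Function.Injective Φ := by
    rintro ⟨⟨c, hc⟩, ⟨n, hn⟩⟩ ⟨⟨c', hc'⟩, ⟨n', hn'⟩⟩ hxy
    simp only [Φ, Prod.mk.injEq, Subtype.mk.injEq] at hxy
    obtain ⟨h1, h2⟩ := hxy
    rw [h1] at h2
    have h3 : c.out * n = c'.out * n' := mul_right_cancel h2
    have h4 : c = c' := by
      have := congrArg (fun g : G => (g : G ⧸ N)) h3
      simpa [QuotientGroup.mk_mul_of_mem _ hn, QuotientGroup.mk_mul_of_mem _ hn'] using this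
    subst h4
    have h5 : n = n' := mul_left_cancel h3
    subst h5; rfl
  have hcard := Nat.card_le_card_of_injective Φ hΦ
  rw [Nat.card_prod, Nat.card_prod, mul_comm] at hcard
  exact Nat.le_of_mul_le_mul_left hcard Nat.card_pos

theorem AP_quot {G : Type u} [Group G] [Finite G] {p n : ℕ} {α : G ≃* G} (hα : AP p n α) (N : Subgroup G) [N.Normal]
    (h : N.map (α : G →* G) = N) : AP p n (quot α N h) :=
  ⟨quot_iterate_eq_id hα.1 N h, (card_fix_quot_le α N h).trans hα.2⟩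

end Cfsg.Agent.Lib.Helper6.ALP
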