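import Cfsg.Agent.Lib.Helper6.ALP.Defs
import Cfsg.Agent.Lib.Helper6.ALP.T2

/-!
# ALP piece T3
-/

set_option autoImplicit false
set_option linter.unusedSectionVars false

open scoped TensorProduct commutatorElement
open Cfsg.Agent.Lib.Helper1.FPF Cfsg.Agent.Lib.Helper6.HKK

namespace Cfsg.Agent.Lib.Helper6.ALP

universe u

/-- the subgroup of the fixed points -/
def T3_fix {H : Type u} [Group H] (β : H ≃* H) : Subgroup H where
  carrier := {x | β x = x}
  mul_mem' := by
    intro a b ha hb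
    show β (a * b) = a * b
    rw [map_mul, ha, hb]
  one_mem' := map_one β
  inv_mem' := by
    intro a ha
    show β a⁻¹ = a⁻¹
    rw [map_inv, ha]

theorem pow_mem_of_fix {G : Type u} [Group G] [Finite G] {p n : ℕ} [Fact p.Prime] (hG : IsPGroup p G) {α : G ≃* G}
    (hα : AP p n α) (B : Subgroup G) [B.Normal] (h : B.map (α : G →* G) = B) (t : G) (ht : t⁻¹ * α t ∈ B) :
    t ^ (p ^ n) ∈ B := by
  have hq := (AP_quot hα B h).2
  have hfix : quot α B h (t : G ⧸ B) = (t : G ⧸ B) := by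
    rw [quot_mk]
    exact (QuotientGroup.eq.2 ht).symm
  have hQ : IsPGroup p (G ⧸ B) := hG.to_quotient B
  have hF : IsPGroup p (T3_fix (quot α B h)) := hQ.to_subgroup _
  obtain ⟨k, hk⟩ := IsPGroup.iff_card.1 hF
  have hcard : Nat.card (T3_fix (quot α B h)) ≤ p ^ n := hq
  have hkn : k ≤ n := by
    rw [hk] at hcard
    exact (Nat.pow_le_pow_iff_right (Fact.out : p.Prime).one_lt).1 hcard
  have h1 : (⟨(t : G ⧸ B), hfix⟩ : T3_fix (quot α B h)) ^ (p ^ k) = 1 := by
    rw [← hk]; exact pow_card_eq_one'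
  have h2 : (t : G ⧸ B) ^ (p ^ k) = 1 := congrArg Subtype.val h1
  have h3 : (t : G ⧸ B) ^ (p ^ n) = 1 := by
    obtain ⟨c, hc⟩ := pow_dvd_pow p hkn
    rw [hc, pow_mul, h2, one_pow]
  rw [← QuotientGroup.eq_one_iff]
  exact h3

end Cfsg.Agent.Lib.Helper6.ALP
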