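import Cfsg.Agent.Lib.Helper6.ALP.Defs
import Cfsg.Agent.Lib.Helper6.ALP.T3
import Cfsg.Agent.Lib.Helper6.ALP.C1

/-!
# ALP piece L5a

`LG_ind` (HKK/B2c) in x: the statement is additive (`iterate_map_add`, `Finset.sum_add_distrib`, `smul_add`, neg, zero).
x = el m g, g ∈ γ_m: Σ_j φ^j (el m g) = Σ_j el m ((β^j) g) (`phi_iter`) = el m t with t = ((List.range p).map (fun k => (β^k) g)).prod (`el_list_prod` and `B8d_sum_range` in HKK/B8d; `alpha_mem`).
p^n • el m t = el m (t^(p^n)) (`el_pow`), and this is 0 iff t^(p^n) ∈ γ_{m+1} (`el_eq_zero_iff`).  `pow_mem_of_fix` with B = Gm H (m+1) (`map_Gm`): need t⁻¹ * β t ∈ γ_{m+1}.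
β t = Π_{k<p} β^{k+1} g = g⁻¹ * t * g since β^p g = g (List.range_succ / range_succ_eq_map: t = g * r, β t = r * g with r = Π_{1≤k<p} β^k g).  So t⁻¹ β t = t⁻¹ g⁻¹ t g = ⁅t⁻¹, g⁻¹⁆ ∈ γ_{m+m+1} ≤ γ_{m+1} (`comm_mem`, `Gm_anti`).
-/

set_option autoImplicit false
set_option linter.unusedSectionVars false

open scoped TensorProduct commutatorElement
open Cfsg.Agent.Lib.Helper1.FPF Cfsg.Agent.Lib.Helper6.HKK

namespace Cfsg.Agent.Lib.Helper6.ALP

universe u

theorem L5a_shift {H : Type u} [Group H] (f : ℕ → H) (N : ℕ) :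
    ((List.range N).map (fun k => f (k + 1))).prod = (f 0)⁻¹ * ((List.range N).map f).prod * f N := by
  induction N with
  | zero => simp
  | succ N ih =>
    rw [List.range_succ, List.map_append, List.map_append, List.prod_append, List.prod_append, ih]
    simp [mul_assoc]

theorem L5a_pow_apply {H : Type u} [Group H] (β : MulAut H) (k : ℕ) (g : H) : (β ^ k) g = β^[k] g := by
  induction k with
  | zero => simp
  | succ k ih => rw [pow_succ', MulAut.mul_apply, ih, Function.iterate_succ_apply']

theorem tau_zero {H : Type u} [Group H] [Finite H] {p n : ℕ} [Fact p.Prime] (hH : IsPGroup p H) (β : MulAut H)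
    (hβ : AP p n β) (x : LG H) : p ^ n • ∑ j ∈ Finset.range p, (phi H β)^[j] x = 0 := by
  refine LG_ind (fun x => p ^ n • ∑ j ∈ Finset.range p, (phi H β)^[j] x = 0) ?_ ?_ ?_ ?_ x
  · simp [iterate_map_zero]
  · intro x y hx hy
    simp only [iterate_map_add, Finset.sum_add_distrib, smul_add, hx, hy, add_zero]
  · intro x hx
    simp only [iterate_map_neg, Finset.sum_neg_distrib, smul_neg, hx, neg_zero]
  · intro m g hg
    set f : ℕ → H := fun k => (β ^ k) g with hf
    set t : H := ((List.range p).map f).prod with ht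
    have hfm : ∀ k, f k ∈ Gm H m := fun k => alpha_mem (β ^ k) hg
    have hl : ∀ a ∈ (List.range p).map f, a ∈ Gm H m := by
      intro a ha
      obtain ⟨k, _, rfl⟩ := List.mem_map.mp ha
      exact hfm k
    have htm : t ∈ Gm H m := Subgroup.list_prod_mem _ hl
    have hsum : ∑ j ∈ Finset.range p, (phi H β)^[j] (el H m g) = el H m t := by
      rw [ht, el_list_prod m _ hl, List.map_map, B8d_sum_range]
      congr 1
      apply List.map_congr_left
      intro j _
      exact phi_iter β j m hg
    rw [hsum, ← el_pow m htm, el_eq_zero_iff m ((Gm H m).pow_mem htm _)]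
    have hβt : β t = g⁻¹ * t * g := by
      have h1 : β t = ((List.range p).map (fun k => f (k + 1))).prod := by
        rw [ht, map_list_prod, List.map_map]
        congr 1
        apply List.map_congr_left
        intro k _
        show β ((β ^ k) g) = (β ^ (k + 1)) g
        rw [pow_succ', MulAut.mul_apply]
      have h0 : f 0 = g := by simp [hf]
      have hp : f p = g := by
        show (β ^ p) g = g
        rw [L5a_pow_apply, hβ.1]; rfl
      rw [h1, L5a_shift, h0, hp]
    have hcomm : t⁻¹ * β t ∈ Gm H (m + 1) := by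
      have h2 : t⁻¹ * β t = ⁅t⁻¹, g⁻¹⁆ := by
        rw [hβt, commutatorElement_def]; group
      rw [h2]
      exact Gm_anti (by omega) (comm_mem ((Gm H m).inv_mem htm) ((Gm H m).inv_mem hg))
    exact pow_mem_of_fix hH hβ (Gm H (m + 1)) (map_Gm β (m + 1)) t hcomm

end Cfsg.Agent.Lib.Helper6.ALP
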