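import Cfsg.Agent.Lib.Helper6.ALP.Defs
import Cfsg.Agent.Lib.Helper6.ALP.L4
import Cfsg.Agent.Lib.Helper6.ALP.L5a

/-!
# ALP piece L5
-/

set_option autoImplicit false
set_option linter.unusedSectionVars false

open scoped TensorProduct commutatorElement
open Cfsg.Agent.Lib.Helper1.FPF Cfsg.Agent.Lib.Helper6.HKK

namespace Cfsg.Agent.Lib.Helper6.ALP

universe u

theorem pow_mem_Gm {H : Type u} [Group H] [Finite H] {p n : ℕ} [Fact p.Prime] (hH : IsPGroup p H) (β : MulAut H)
    (hβ : AP p n β) (i : ℕ) (hi : xi p (2 ^ (p - 1) - 1) ≤ i) (g : H) (hg : g ∈ Gm H i) :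
    g ^ (p ^ (xi p (2 ^ (p - 1) - 1) + n * (xi p (2 ^ (p - 1) - 1) + 1))) ∈ Gm H (i + 1) := by
  have hβp : β ^ p = 1 := by
    apply MulEquiv.ext
    intro a
    rw [mulAut_pow_apply]
    have h1 := congrFun hβ.1 a
    exact h1
  have key := lie_afpf_ge p (phi H β) (phi_lie β) (phi_pow β p hβp) n (tau_zero hH β hβ)
    (xi p (2 ^ (p - 1) - 1)) (fun S => thmG p S)
  set c := p ^ (xi p (2 ^ (p - 1) - 1) + n * (xi p (2 ^ (p - 1) - 1) + 1)) with hc
  have hall : ∀ z ∈ AddSubgroup.closure {z : LG H | ∃ (x : LG H) (l : List (LG H)), l.length = i ∧ z = lnb x l},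
      c • z = 0 := by
    intro z hmem
    induction hmem using AddSubgroup.closure_induction with
    | mem z hz =>
      obtain ⟨x, l, hl, rfl⟩ := hz
      exact key x l (by rw [hl]; exact hi)
    | zero => exact smul_zero _
    | add a b _ _ ha hb => rw [smul_add, ha, hb, add_zero]
    | neg a _ ha => rw [smul_neg, ha, neg_zero]
  have h0 : c • el H i g = 0 := hall _ (el_mem_closure i g hg)
  rw [← el_eq_zero_iff i ((Gm H i).pow_mem hg c), el_pow i hg, h0]

end Cfsg.Agent.Lib.Helper6.ALP
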