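import Cfsg.Agent.Lib.Helper6.ALP.Defs

/-!
# ALP piece Q1 (helper4)
-/

set_option autoImplicit false
set_option linter.unusedSectionVars false

open scoped TensorProduct commutatorElement
open Cfsg.Agent.Lib.Helper1.FPF Cfsg.Agent.Lib.Helper6.HKK

namespace Cfsg.Agent.Lib.Helper6.ALP

universe u

theorem Q1_aux {Q : Type u} [CommGroup Q] [Finite Q] (e : ℕ) (he : 0 < e)
    (hx : ∀ x : Q, x ^ e = 1) (S : Finset Q) :
    Nat.card (Subgroup.closure (S : Set Q)) ≤ e ^ S.card := by
  classical
  induction S using Finset.induction_on with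
  | empty => simp
  | insert a S ha ih =>
    rw [Finset.card_insert_of_notMem ha, Finset.coe_insert, Set.insert_eq, Subgroup.closure_union,
      ← Subgroup.zpowers_eq_closure]
    have hsup : Nat.card (Subgroup.zpowers a ⊔ Subgroup.closure (S : Set Q) : Subgroup Q) ≤
        Nat.card (Subgroup.zpowers a) * Nat.card (Subgroup.closure (S : Set Q)) := by
      rw [← Nat.card_prod]
      refine Nat.card_le_card_of_surjective
        (fun x : Subgroup.zpowers a × Subgroup.closure (S : Set Q) =>
          (⟨x.1 * x.2, Subgroup.mul_mem_sup x.1.2 x.2.2⟩ :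
            (Subgroup.zpowers a ⊔ Subgroup.closure (S : Set Q) : Subgroup Q))) ?_
      rintro ⟨x, hx⟩
      obtain ⟨y, hy, z, hz, rfl⟩ := Subgroup.mem_sup.1 hx
      exact ⟨(⟨y, hy⟩, ⟨z, hz⟩), rfl⟩
    have hz : Nat.card (Subgroup.zpowers a) ≤ e := by
      rw [Nat.card_zpowers]
      exact orderOf_le_of_pow_eq_one he (hx a)
    calc _ ≤ Nat.card (Subgroup.zpowers a) * Nat.card (Subgroup.closure (S : Set Q)) := hsup
      _ ≤ e * e ^ S.card := Nat.mul_le_mul hz ih
      _ = e ^ (S.card + 1) := by rw [pow_succ, mul_comm]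

theorem card_le_of_gen {Q : Type u} [Group Q] [Finite Q] (hc : ∀ a b : Q, a * b = b * a) (S : Finset Q)
    (hS : Subgroup.closure (S : Set Q) = ⊤) (e : ℕ) (he : 0 < e) (hx : ∀ x : Q, x ^ e = 1) :
    Nat.card Q ≤ e ^ S.card := by
  letI : CommGroup Q := { (inferInstance : Group Q) with mul_comm := hc }
  have h := Q1_aux e he hx S
  rw [hS, Subgroup.card_top] at h
  exact h

end Cfsg.Agent.Lib.Helper6.ALP
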