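import Cfsg.Agent.Lib.Helper6.ALP.Defs
import Cfsg.Agent.S3780
import Cfsg.Agent.Lib.Helper6.ALP.Q1

/-!
# ALP piece Q2 (helper4)
-/

set_option autoImplicit false
set_option linter.unusedSectionVars false
set_option linter.style.haveILetI false

open scoped TensorProduct commutatorElement
open Cfsg.Agent.Lib.Helper1.FPF Cfsg.Agent.Lib.Helper6.HKK

namespace Cfsg.Agent.Lib.Helper6.ALP

universe u

theorem ab_bound {Q : Type u} [Group Q] [Finite Q] {p n : ℕ} [Fact p.Prime] (hc : ∀ a b : Q, a * b = b * a)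
    (hQ : IsPGroup p Q) (γ : Q ≃* Q) (hγ : AP p n γ) (N : ℕ) (hx : ∀ x : Q, x ^ (p ^ N) = 1) :
    Nat.card Q ≤ p ^ (N * (p * n) + n) := by
  have hp : p.Prime := Fact.out
  letI : CommGroup Q := { (inferInstance : Group Q) with mul_comm := hc }
  obtain ⟨hγp, hγn⟩ := hγ
  have hpow : (γ : MulAut Q) ^ p = 1 := by
    ext x
    rw [mulAut_pow_apply, hγp]
    rfl
  have hord : orderOf (γ : MulAut Q) ∣ p := orderOf_dvd_of_pow_eq_one hpow
  rcases (Nat.dvd_prime hp).1 hord with h1 | h1
  · rw [orderOf_eq_one_iff] at h1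
    have hall : Nat.card {g : Q // γ g = g} = Nat.card Q := by
      apply Nat.card_congr
      refine Equiv.subtypeUnivEquiv (fun x => ?_)
      have := DFunLike.congr_fun h1 x
      exact this
    rw [hall] at hγn
    exact hγn.trans (Nat.pow_le_pow_right hp.pos (Nat.le_add_left _ _))
  · let Fx : Subgroup Q := (γ : Q →* Q).eqLocus (MonoidHom.id Q)
    obtain ⟨m, hm⟩ := (hQ.to_subgroup Fx).exists_card_eq
    have hfix : Nat.card {v : Q // (γ : MulAut Q) v = v} = p ^ m := hm
    have hmn : m ≤ n := by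
      have : p ^ m ≤ p ^ n := by
        rw [← hfix]; exact hγn
      exact (Nat.pow_le_pow_iff_right hp.one_lt).1 this
    obtain ⟨S, hScard, hS⟩ := Cfsg.Agent.S3780.result hQ (γ : MulAut Q) h1 m hfix
    have h2 := card_le_of_gen hc S hS (p ^ N) (pow_pos hp.pos N) hx
    rw [← pow_mul] at h2
    refine h2.trans (Nat.pow_le_pow_right hp.pos ?_)
    calc N * S.card ≤ N * (p * m) := Nat.mul_le_mul_left _ hScard
      _ ≤ N * (p * n) := Nat.mul_le_mul_left _ (Nat.mul_le_mul_left _ hmn)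
      _ ≤ N * (p * n) + n := Nat.le_add_right _ _

end Cfsg.Agent.Lib.Helper6.ALP
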