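import Cfsg.Agent.Lib.Helper6.ALP.Defs

/-!
# ALP piece T1

Restriction.  `restr_iterate_eq_id`.  Fixed points of `restr α H h` inject into those of α.
-/

set_option autoImplicit false
set_option linter.unusedSectionVars false

open scoped TensorProduct commutatorElement
open Cfsg.Agent.Lib.Helper1.FPF Cfsg.Agent.Lib.Helper6.HKK

namespace Cfsg.Agent.Lib.Helper6.ALP

universe u

theorem AP_restr {G : Type u} [Group G] [Finite G] {p n : ℕ} {α : G ≃* G} (hα : AP p n α) (H : Subgroup G)
    (h : H.map (α : G →* G) = H) : AP p n (restr α H h) := by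
  refine ⟨restr_iterate_eq_id hα.1 H h, le_trans ?_ hα.2⟩
  apply Nat.card_le_card_of_injective
    (fun x : {g : H // restr α H h g = g} => (⟨x.1.1, by
      have := congrArg Subtype.val x.2
      rwa [restr_coe] at this⟩ : {g : G // α g = g}))
  intro x y hxy
  apply Subtype.ext
  apply Subtype.ext
  have h2 : ((x.1 : H) : G) = ((y.1 : H) : G) := congrArg (fun z : {g : G // α g = g} => (z.1 : G)) hxy
  exact h2

end Cfsg.Agent.Lib.Helper6.ALP
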