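import Cfsg.Agent.Lib.Helper6.ALP.Defs
import Cfsg.Agent.Lib.Helper6.ALP.T1
import Cfsg.Agent.Lib.Helper6.ALP.T2
import Cfsg.Agent.Lib.Helper6.ALP.Q2
import Cfsg.Agent.Lib.Helper6.ALP.C1
import Cfsg.Agent.Lib.Helper6.ALP.L5

/-!
# ALP piece L6
-/

set_option autoImplicit false
set_option linter.unusedSectionVars false

open scoped TensorProduct commutatorElement
open Cfsg.Agent.Lib.Helper1.FPF Cfsg.Agent.Lib.Helper6.HKK

namespace Cfsg.Agent.Lib.Helper6.ALP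

universe u

theorem relIndex_Gm_le {H : Type u} [Group H] [Finite H] {p n : ℕ} [Fact p.Prime] (hH : IsPGroup p H) (β : MulAut H)
    (hβ : AP p n β) (i : ℕ) (hi : xi p (2 ^ (p - 1) - 1) ≤ i) :
    (Gm H (i + 1)).relIndex (Gm H i) ≤
      p ^ ((xi p (2 ^ (p - 1) - 1) + n * (xi p (2 ^ (p - 1) - 1) + 1)) * (p * n) + n) := by
  have hB : ((Gm H (i + 1)).subgroupOf (Gm H i)).map
      ((restr β (Gm H i) (map_Gm β i) : ↥(Gm H i) ≃* ↥(Gm H i)) : ↥(Gm H i) →* ↥(Gm H i)) =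
      (Gm H (i + 1)).subgroupOf (Gm H i) := by
    apply Subgroup.eq_of_le_of_card_ge
    · rintro x ⟨y, hy, rfl⟩
      rw [Subgroup.mem_subgroupOf]
      exact alpha_mem β (Subgroup.mem_subgroupOf.1 hy)
    · rw [Subgroup.card_map_of_injective (restr β (Gm H i) (map_Gm β i)).injective]
  have hγ : AP p n (quot (restr β (Gm H i) (map_Gm β i)) ((Gm H (i + 1)).subgroupOf (Gm H i)) hB) :=
    AP_quot (AP_restr hβ (Gm H i) (map_Gm β i)) _ hB
  have hc : ∀ a b : ↥(Gm H i) ⧸ (Gm H (i + 1)).subgroupOf (Gm H i), a * b = b * a := by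
    intro a b
    obtain ⟨a, rfl⟩ := QuotientGroup.mk_surjective a
    obtain ⟨b, rfl⟩ := QuotientGroup.mk_surjective b
    rw [← QuotientGroup.mk_mul, ← QuotientGroup.mk_mul, QuotientGroup.eq, Subgroup.mem_subgroupOf]
    have h1 : (((a * b)⁻¹ * (b * a) : ↥(Gm H i)) : H) = ⁅(b : H)⁻¹, (a : H)⁻¹⁆ := by
      rw [commutatorElement_def]
      push_cast
      group
    rw [h1]
    exact Gm_anti (by omega) (comm_mem (inv_mem b.2) (inv_mem a.2))
  have hQ : IsPGroup p (↥(Gm H i) ⧸ (Gm H (i + 1)).subgroupOf (Gm H i)) :=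
    (hH.to_subgroup (Gm H i)).to_quotient _
  have hx : ∀ x : ↥(Gm H i) ⧸ (Gm H (i + 1)).subgroupOf (Gm H i),
      x ^ (p ^ (xi p (2 ^ (p - 1) - 1) + n * (xi p (2 ^ (p - 1) - 1) + 1))) = 1 := by
    intro x
    obtain ⟨g, rfl⟩ := QuotientGroup.mk_surjective x
    rw [← QuotientGroup.mk_pow, QuotientGroup.eq_one_iff, Subgroup.mem_subgroupOf]
    exact pow_mem_Gm hH β hβ i hi g.1 g.2
  exact ab_bound hc hQ _ hγ _ hx

end Cfsg.Agent.Lib.Helper6.ALP
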