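import Cfsg.Agent.Lib.Helper6.ALP.Defs
import Cfsg.Agent.S3781
import Cfsg.Agent.Lib.Helper6.ALP.T1
import Cfsg.Agent.Lib.Helper6.ALP.C1
import Cfsg.Agent.Lib.Helper6.ALP.L6

/-!
# ALP piece L7
-/

set_option autoImplicit false
set_option linter.unusedSectionVars false

open scoped TensorProduct commutatorElement
open Cfsg.Agent.Lib.Helper1.FPF Cfsg.Agent.Lib.Helper6.HKK

namespace Cfsg.Agent.Lib.Helper6.ALP

universe u

theorem class_bound {G : Type u} [Group G] [Finite G] {p n : ℕ} [Fact p.Prime] (hG : IsPGroup p G) (α : G ≃* G)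
    (hα : AP p n α) :
    (derivedSeries G ((xi p (2 ^ (p - 1) - 1) + n * (xi p (2 ^ (p - 1) - 1) + 1)) * (p * n) + n)).lowerCentralSeries
      (xi p (2 ^ (p - 1) - 1) + 2) = ⊥ := by
  generalize hk : (xi p (2 ^ (p - 1) - 1) + n * (xi p (2 ^ (p - 1) - 1) + 1)) * (p * n) + n = k
  by_contra hne
  have hp : p.Prime := Fact.out
  have hN : derivedSeries G k ≤ (⊤ : Subgroup G).lowerCentralSeries (k + 1 - 1) := by
    rw [Nat.add_sub_cancel]
    exact Subgroup.derived_le_lower_central k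
  have h1 := Cfsg.Agent.S3781.result hG (k + 1) (by omega) (derivedSeries G k) hN
    (xi p (2 ^ (p - 1) - 1) + 2) (by omega) hne
  have e : xi p (2 ^ (p - 1) - 1) + 2 - 1 = xi p (2 ^ (p - 1) - 1) + 1 := by omega
  rw [e, ← Subgroup.top_subtype_lowerCentralSeries (derivedSeries G k) (xi p (2 ^ (p - 1) - 1) + 2),
    ← Subgroup.top_subtype_lowerCentralSeries (derivedSeries G k) (xi p (2 ^ (p - 1) - 1) + 1),
    Subgroup.relIndex_map_map_of_injective _ _ (Subgroup.subtype_injective _)] at h1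
  have h2 := relIndex_Gm_le (hG.to_subgroup (derivedSeries G k))
    (restr α (derivedSeries G k) (map_derived α k)) (AP_restr hα _ _)
    (xi p (2 ^ (p - 1) - 1) + 1) (by omega)
  rw [hk] at h2
  have h3 := h1.trans h2
  exact absurd h3 (not_le.2 (Nat.pow_lt_pow_right hp.one_lt (Nat.lt_succ_self k)))

end Cfsg.Agent.Lib.Helper6.ALP
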