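import Cfsg.Agent.Lib.Helper6.ALP.Defs
import Cfsg.Agent.Lib.Helper6.ALP.L7
import Cfsg.Agent.Lib.Helper6.ALP.D1

/-!
# ALP piece L8

`derived_add k (h+2)`, `derived_le_lcs`, `class_bound`, `le_bot_iff`.
-/

set_option autoImplicit false
set_option linter.unusedSectionVars false

open scoped TensorProduct commutatorElement
open Cfsg.Agent.Lib.Helper1.FPF Cfsg.Agent.Lib.Helper6.HKK

namespace Cfsg.Agent.Lib.Helper6.ALP

universe u

/-- the bound for p-groups -/
def gP (p n : ℕ) : ℕ := ((xi p (2 ^ (p - 1) - 1) + n * (xi p (2 ^ (p - 1) - 1) + 1)) * (p * n) + n) + (xi p (2 ^ (p - 1) - 1) + 2)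

theorem pgroup_bound {G : Type u} [Group G] [Finite G] {p n : ℕ} [Fact p.Prime] (hG : IsPGroup p G) (α : G ≃* G)
    (hα : AP p n α) : derivedSeries G (gP p n) = ⊥ := by
  unfold gP
  rw [derived_add, ← le_bot_iff, ← class_bound hG α hα]
  exact derived_le_lcs _ _

end Cfsg.Agent.Lib.Helper6.ALP
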