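import Cfsg.Agent.Lib.Helper6.ALP.Defs
import Cfsg.Agent.S3779
import Cfsg.Agent.Lib.Lead.Cores
import Cfsg.Agent.Lib.Helper6.ALP.T1
import Cfsg.Agent.Lib.Helper6.ALP.C1
import Cfsg.Agent.Lib.Helper6.ALP.D1

/-!
# ALP piece R1

K := pPrimeCore p G has order prime to p.
β := restr α K (map_pPrimeCore p α) is fixed-point-free: a fixed x ∈ K lies in the subgroup Fix α of order p^n, so orderOf x ∣ p^n and orderOf x ∣ |K|, coprime, so x = 1.
β^p = 1 in MulAut ↥K so orderOf β ∈ {1, p}.  If β = 1, every element of K is fixed so K is trivial and every derivedSeries term is ⊥ (Subsingleton).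
If orderOf β = p: S3779 and `derived_le_lower_central`.
-/

set_option autoImplicit false
set_option linter.unusedSectionVars false

open scoped TensorProduct commutatorElement
open Cfsg.Agent.Lib.Helper1.FPF Cfsg.Agent.Lib.Helper6.HKK

namespace Cfsg.Agent.Lib.Helper6.ALP

universe u

theorem pPrimeCore_bound {G : Type u} [Group G] [Finite G] {p n : ℕ} [Fact p.Prime] (α : G ≃* G)
    (hα : α^[p] = _root_.id) (hfix : Nat.card {g : G // α g = g} = p ^ n) :
    derivedSeries ↥(Cfsg.pPrimeCore p G) (xi p (2 ^ (p - 1) - 1)) = ⊥ := by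
  have hp : p.Prime := Fact.out
  set K := Cfsg.pPrimeCore p G with hK
  have hcop : (Nat.card K).Coprime p := Cfsg.Agent.Lib.Lead.card_pPrimeCore_coprime p
  -- the fixed subgroup
  let F : Subgroup G :=
    { carrier := {g | α g = g}
      one_mem' := map_one α
      mul_mem' := by
        intro a b ha hb
        simp only [Set.mem_setOf_eq] at ha hb ⊢
        rw [map_mul, ha, hb]
      inv_mem' := by
        intro a ha
        simp only [Set.mem_setOf_eq] at ha ⊢
        rw [map_inv, ha] }
  have hF : Nat.card F = p ^ n := hfix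
  set β : K ≃* K := restr α K (map_pPrimeCore p α) with hβ
  have hfpf : ∀ x : K, β x = x → x = 1 := by
    intro x hx
    have hx' : α (x : G) = x := by
      have := congrArg (Subtype.val) hx
      rwa [hβ, restr_coe] at this
    have h1 : orderOf (x : G) ∣ p ^ n := by
      have : orderOf (⟨(x : G), hx'⟩ : F) ∣ Nat.card F := orderOf_dvd_natCard _
      rw [hF] at this
      rwa [← Subgroup.orderOf_coe] at this
    have h2 : orderOf (x : G) ∣ Nat.card K := by
      rw [Subgroup.orderOf_coe]
      exact orderOf_dvd_natCard _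
    have h3 : orderOf (x : G) = 1 :=
      Nat.eq_one_of_dvd_coprimes (Nat.Coprime.pow_right n hcop) h2 h1
    have h4 : (x : G) = 1 := orderOf_eq_one_iff.mp h3
    exact Subtype.ext h4
  have hβp : β^[p] = _root_.id := restr_iterate_eq_id hα K _
  let B : MulAut K := β
  have hBp : B ^ p = 1 := by
    ext x
    rw [mulAut_pow_apply]
    have := congrFun hβp x
    simpa using congrArg Subtype.val this
  have hord : orderOf B ∣ p := orderOf_dvd_of_pow_eq_one hBp
  rcases (Nat.dvd_prime hp).mp hord with h1 | h1
  · have hB1 : B = 1 := orderOf_eq_one_iff.mp h1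
    have hsub : Subsingleton K := by
      refine ⟨fun a b => ?_⟩
      have ha : a = 1 := hfpf a (by
        have : B a = a := by rw [hB1]; rfl
        exact this)
      have hb : b = 1 := hfpf b (by
        have : B b = b := by rw [hB1]; rfl
        exact this)
      rw [ha, hb]
    exact Subsingleton.elim _ _
  · have h := (Cfsg.Agent.S3779.result hp B h1 hfpf).2.2
    have h5 : derivedSeries K (xi p (2 ^ (p - 1) - 1)) ≤
        (⊤ : Subgroup K).lowerCentralSeries (xi p (2 ^ (p - 1) - 1)) :=
      derived_le_lower_central _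
    rw [eq_bot_iff]
    refine h5.trans ?_
    unfold xi
    rw [h]

end Cfsg.Agent.Lib.Helper6.ALP
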