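import Cfsg.Agent.Lib.Helper6.ALP.Defs
import Cfsg.Agent.Lib.Helper90.Extraspecial
import Cfsg.Agent.Lib.Helper6.ALP.T2
import Cfsg.Agent.Lib.Helper6.ALP.Q2
import Cfsg.Agent.Lib.Helper6.ALP.C1

/-!
# ALP piece R2a

Q := R ⧸ frattini R for a finite p-group R is elementary abelian: commutator R ≤ frattini R and x^p ∈ frattini R.
γ' := quot γ (frattini R) (map_frattini γ); `AP_quot`; `ab_bound` with N = 1.
-/

set_option autoImplicit false
set_option linter.unusedSectionVars false

open scoped TensorProduct commutatorElement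
open Cfsg.Agent.Lib.Helper1.FPF Cfsg.Agent.Lib.Helper6.HKK

namespace Cfsg.Agent.Lib.Helper6.ALP

universe u

theorem card_frattini_quot_le {R : Type u} [Group R] [Finite R] {p n : ℕ} [Fact p.Prime] (hR : IsPGroup p R)
    (γ : R ≃* R) (hγ : AP p n γ) : Nat.card (R ⧸ frattini R) ≤ p ^ (1 * (p * n) + n) := by
  have hc : ∀ a b : R ⧸ frattini R, a * b = b * a := by
    have h := (Subgroup.Normal.quotient_commutative_iff_commutator_le (N := frattini R)).mpr
      (Cfsg.Agent.Lib.Helper90.commutator_le_frattini hR)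
    exact fun a b => h.is_comm.comm a b
  have hQ : IsPGroup p (R ⧸ frattini R) := hR.to_quotient _
  have hx : ∀ x : R ⧸ frattini R, x ^ (p ^ 1) = 1 := by
    intro x
    induction x using QuotientGroup.induction_on with
    | H x =>
      rw [pow_one, ← QuotientGroup.mk_pow, QuotientGroup.eq_one_iff]
      exact Cfsg.Agent.Lib.Helper90.pow_mem_frattini hR x
  exact ab_bound hc hQ (quot γ (frattini R) (map_frattini γ))
    (AP_quot hγ (frattini R) (map_frattini γ)) 1 hx

end Cfsg.Agent.Lib.Helper6.ALP
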