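import Cfsg.Agent.Lib.Helper6.ALP.Defs
import Cfsg.Agent.S4218

/-!
# ALP piece R2b
-/

set_option autoImplicit false
set_option linter.unusedSectionVars false

open scoped TensorProduct commutatorElement
open Cfsg.Agent.Lib.Helper1.FPF Cfsg.Agent.Lib.Helper6.HKK

namespace Cfsg.Agent.Lib.Helper6.ALP

universe u

theorem index_pCore_le {X : Type u} [Group X] [Finite X] {p : ℕ} [Fact p.Prime]
    (hC : Subgroup.centralizer (Cfsg.pCore p X : Set X) ≤ Cfsg.pCore p X) :
    (Cfsg.pCore p X).index ≤ (Nat.card (↥(Cfsg.pCore p X) ⧸ frattini ↥(Cfsg.pCore p X))).factorial := by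
  classical
  set R := Cfsg.pCore p X with hR
  let φ : X →* MulAut (↥R ⧸ frattini ↥R) :=
    (Cfsg.Agent.S4189.autQuot (frattini ↥R)).comp MulAut.conjNormal
  have hle : φ.ker ≤ R := by
    intro h hh
    rw [hR, ← Cfsg.Agent.S4218.core_lemma hC h]
    intro r
    have h1 : φ h (r : ↥R ⧸ frattini ↥R) = (r : ↥R ⧸ frattini ↥R) := by
      rw [MonoidHom.mem_ker.mp hh]; rfl
    have h2 : φ h (r : ↥R ⧸ frattini ↥R)
        = ((MulAut.conjNormal h r : ↥R) : ↥R ⧸ frattini ↥R) := rfl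
    rw [h2, QuotientGroup.eq_iff_div_mem, div_eq_mul_inv] at h1
    exact h1
  have h1 : R.index ≤ φ.ker.index :=
    Nat.le_of_dvd (Nat.pos_of_ne_zero (Subgroup.index_ne_zero_of_finite)) (Subgroup.index_dvd_of_le hle)
  have h2 : φ.ker.index = Nat.card φ.range := Subgroup.index_ker φ
  have h3 : Nat.card φ.range ≤ Nat.card (MulAut (↥R ⧸ frattini ↥R)) :=
    Nat.card_le_card_of_injective _ Subtype.val_injective
  have h4 : Nat.card (MulAut (↥R ⧸ frattini ↥R)) ≤ Nat.card (Equiv.Perm (↥R ⧸ frattini ↥R)) :=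
    Nat.card_le_card_of_injective (MulAut.toPerm _) (by
      intro a b hab
      ext x
      exact congrArg (fun f : Equiv.Perm _ => f x) hab)
  have h5 : Nat.card (Equiv.Perm (↥R ⧸ frattini ↥R)) = (Nat.card (↥R ⧸ frattini ↥R)).factorial :=
    Nat.card_perm
  omega

end Cfsg.Agent.Lib.Helper6.ALP
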