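import Cfsg.Agent.Lib.Helper6.ALP.Defs
import Cfsg.Agent.Lib.Helper76.PSolvable
import Cfsg.Agent.Lib.Helper11.Solv
import Cfsg.Agent.Lib.Helper6.ALP.T1
import Cfsg.Agent.Lib.Helper6.ALP.C1
import Cfsg.Agent.Lib.Helper6.ALP.D1
import Cfsg.Agent.Lib.Helper6.ALP.L8
import Cfsg.Agent.Lib.Helper6.ALP.R2a
import Cfsg.Agent.Lib.Helper6.ALP.R2b

/-!
# ALP piece R3

R := pCore p X, normal (grep `pCore_normal` instance), p-group (`pCore_isPGroup`).  hC : centralizer R ≤ R from solvability and pPrimeCore = ⊥ (`Cfsg.Agent.Lib.Helper82…centralizer_pCore_le_of_isSolvable` or `Helper76.centralizer_pCore_le (Helper11.isPSolvable_of_isSolvable p hX) hcore`).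
card (X ⧸ R) = index R ≤ (card (R ⧸ frattini R))! ≤ (p^(1*(p*n)+n))! (`index_pCore_le`, `card_frattini_quot_le` for γ = restr α R (map_pCore p α), `Nat.factorial_le`).
`derived_card` for X ⧸ R (solvable quotient), `pgroup_bound` for ↥R, `derived_ext`.
-/

set_option autoImplicit false
set_option linter.unusedSectionVars false
set_option linter.deprecated false

open scoped TensorProduct commutatorElement
open Cfsg.Agent.Lib.Helper1.FPF Cfsg.Agent.Lib.Helper6.HKK

namespace Cfsg.Agent.Lib.Helper6.ALP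

universe u

theorem core_free_bound {X : Type u} [Group X] [Finite X] {p n : ℕ} [Fact p.Prime] (hX : IsSolvable X)
    (hcore : Cfsg.pPrimeCore p X = ⊥) (α : X ≃* X) (hα : AP p n α) :
    derivedSeries X ((p ^ (1 * (p * n) + n)).factorial + gP p n) = ⊥ := by
  have hC : Subgroup.centralizer (Cfsg.pCore p X : Set X) ≤ Cfsg.pCore p X :=
    Cfsg.Agent.Lib.Helper76.centralizer_pCore_le
      (Cfsg.Agent.Lib.Helper11.isPSolvable_of_isSolvable p hX) hcore
  have hRp : IsPGroup p ↥(Cfsg.pCore p X) := Cfsg.Agent.Lib.Lead.pCore_isPGroup p X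
  have hγ : AP p n (restr α (Cfsg.pCore p X) (map_pCore p α)) := AP_restr hα _ _
  have h1 := index_pCore_le (p := p) hC
  have h2 := card_frattini_quot_le hRp _ hγ
  have h3 : Nat.card (X ⧸ Cfsg.pCore p X) ≤ (p ^ (1 * (p * n) + n)).factorial :=
    h1.trans (Nat.factorial_le h2)
  have hX' : Group.IsSolvable X := hX
  have hq : IsSolvable (X ⧸ Cfsg.pCore p X) :=
    solvable_of_surjective (QuotientGroup.mk'_surjective (Cfsg.pCore p X))
  exact derived_ext (Cfsg.pCore p X) _ _ (derived_card hq _ h3) (pgroup_bound hRp _ hγ)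

end Cfsg.Agent.Lib.Helper6.ALP
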