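import Cfsg.Agent.Lib.Helper6.ALP.Defs
import Cfsg.Agent.S4218
import Cfsg.Agent.Lib.Lead.Cores
import Cfsg.Agent.Lib.Helper6.ALP.T2
import Cfsg.Agent.Lib.Helper6.ALP.C1
import Cfsg.Agent.Lib.Helper6.ALP.D1
import Cfsg.Agent.Lib.Helper6.ALP.R1
import Cfsg.Agent.Lib.Helper6.ALP.R3

/-!
# ALP piece R4

K := pPrimeCore p G (normal: grep instance `pPrimeCore_normal`), X := G ⧸ K: solvable, pPrimeCore p X = ⊥ (`pPrimeCore_quotient_pPrimeCore p G`, used in Cfsg/Agent/S4218.lean), ᾱ := quot α K (map_pPrimeCore p α), `AP_quot`.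
`core_free_bound` for X, `pPrimeCore_bound` for K, `derived_ext`.
-/

set_option autoImplicit false
set_option linter.unusedSectionVars false

open scoped TensorProduct commutatorElement
open Cfsg.Agent.Lib.Helper1.FPF Cfsg.Agent.Lib.Helper6.HKK

namespace Cfsg.Agent.Lib.Helper6.ALP

universe u

theorem solvable_bound {G : Type u} [Group G] [Finite G] {p n : ℕ} [Fact p.Prime] (hG : IsSolvable G) (α : G ≃* G)
    (hα : α^[p] = _root_.id) (hfix : Nat.card {g : G // α g = g} = p ^ n) :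
    derivedSeries G (((p ^ (1 * (p * n) + n)).factorial + gP p n) + xi p (2 ^ (p - 1) - 1)) = ⊥ := by
  have hAP : AP p n α := ⟨hα, hfix.le⟩
  have hK : (Cfsg.pPrimeCore p G).Normal := inferInstance
  refine derived_ext (Cfsg.pPrimeCore p G) _ _ ?_ (pPrimeCore_bound α hα hfix)
  haveI : Group.IsSolvable G := hG
  exact core_free_bound (inferInstance : Group.IsSolvable (G ⧸ Cfsg.pPrimeCore p G))
    (Cfsg.Agent.Lib.Lead.pPrimeCore_quotient_pPrimeCore p G)
    (quot α (Cfsg.pPrimeCore p G) (map_pPrimeCore p α)) (AP_quot hAP _ _)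

end Cfsg.Agent.Lib.Helper6.ALP
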